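import Cfsg.Agent.H7.TC.SpEightFin
import Cfsg.Agent.H210.TC.Row
import Cfsg.Agent.H494.TC.Base

/-!
# S2452, the row `PSp_8(q)`, `q` odd: one class of prime order (helper7)
-/

set_option autoImplicit false
open Polynomial

noncomputable section

namespace Cfsg.Agent.H7.TC

open Cfsg Cfsg.Agent.H144 Cfsg.Agent.H144.War Cfsg.Agent.H144.TC Cfsg.Agent.H538.TC Cfsg.Agent.H955
  Cfsg.Agent.ClassicalGeometry.SympBasic
open Cfsg.Agent.H126.M3 (cu)

theorem exists_cls_prime {F : Type} [Field F] [Finite F] (h2 : (2 : F) ≠ 0) :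
    ∃ (c : Matrix.SpecialLinearGroup (Fin 3) F) (s r : F), Good s r ∧
    (c : Matrix (Fin 3) (Fin 3) F).charpoly = cu s r ∧ Irreducible (cu s r) ∧ (orderOf c).Prime ∧
      (orderOf c).Coprime 6 := by
  have : Fintype F := Fintype.ofFinite F
  have h0 := Nat.cast_card_eq_zero F
  rw [← Nat.card_eq_fintype_card] at h0
  have h1 : 1 < Nat.card F := Finite.one_lt_card
  have hc2 : Nat.card F ≠ 2 := by
    intro h
    rw [h] at h0
    exact h2 (by exact_mod_cast h0)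
  have hc4 : Nat.card F ≠ 4 := by
    intro h
    rw [h] at h0
    have h5 : (2 : F) * 2 = 0 := by
      have h6 : ((4 : ℕ) : F) = 4 := by norm_num
      rw [h6] at h0
      linear_combination h0
    exact h2 (mul_self_eq_zero.1 h5)
  by_cases h3 : Nat.card F = 3
  · obtain ⟨c, hc, h4, h5, -⟩ := exists_class_three h3
    exact ⟨c, 1, -1, good_three (by rw [← Nat.card_eq_fintype_card, h3]), hc, hc ▸ h4, by rw [h5]; norm_num,
      by rw [h5]; norm_num⟩
  · obtain ⟨z, hz, z1, z2, z3⟩ := exists_z (F := F) (by rw [← Nat.card_eq_fintype_card]; omega)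
    obtain ⟨s', hs', h6', hs1'⟩ := exists_s (q := Nat.card F) (by omega)
    obtain ⟨s, hsp, hss⟩ := Nat.exists_prime_and_dvd hs1'
    obtain ⟨c, hc, ho, -⟩ := exists_class (by omega) (hss.trans hs') (Nat.Coprime.coprime_dvd_left hss h6')
      hsp.one_lt.ne'
    have e := Cfsg.Agent.H538.TC.charpoly_of c.2 rfl rfl
    exact ⟨c, _, _, good_of hz z1 z2 z3 _ _, e, e ▸ hc, by rw [ho]; exact hsp,
      by rw [ho]; exact Nat.Coprime.coprime_dvd_left hss h6'⟩

/-- **from isometries to `PSp`**, one class -/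
theorem sq_of_tt {F M : Type} [Field F] [Finite F] [AddCommGroup M] [Module F M] {m : ℕ} [FiniteDimensional F M]
    (η : M ≃ₗ[F] M) (hM : Module.finrank F M = m) (hηs : ∀ c : F, ¬ ∀ v, η v = c • v) {N : ℕ} (hη : η ^ N = 1)
    (hT : ∀ g : (Fin m ⊕ Fin m → F) ≃ₗ[F] (Fin m ⊕ Fin m → F), Iso (sympBilin m F) g →
      (∀ c : F, ¬ ∀ v, g v = c • v) → TT (sympBilin m F) η η g ∨ TT (sympBilin m F) η η (ng g)) :
    ∃ x : PSp m F, x ^ N = 1 ∧ x ≠ 1 ∧
      ∀ g : PSp m F, g ≠ 1 → ∃ u v : PSp m F, g = (u * x * u⁻¹) * (v * x * v⁻¹) := by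
  have hS := isSp_sympBilin m F
  have hV : Module.finrank F (Fin m ⊕ Fin m → F) = 2 * m := by
    rw [Module.finrank_fintype_fun_eq_card, Fintype.card_sum, Fintype.card_fin]
    ring
  have hB : Alt (sympBilin m F) := hS.alt
  have hN : Nond (sympBilin m F) := hS.nd
  obtain ⟨X₀, hX₀, hX₀N⟩ := exists_type hB hN η (by rw [hV, hM]) hη
  refine ⟨AH.pj m F ⟨X₀, hX₀.1⟩, ?_, ?_, fun t ht => ?_⟩
  · rw [← map_pow]
    have : (⟨X₀, hX₀.1⟩ : AH.Gm m F) ^ N = 1 := Subtype.ext hX₀N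
    rw [this, map_one]
  · rw [Ne, AH.pj_eq_one_iff]
    rintro ⟨c, hc⟩
    have hc' : ∀ v, X₀ v = c • v := hc
    obtain ⟨-, P, Q, -, -, -, -, φ, hφ⟩ := id hX₀
    refine hηs c fun v => ?_
    have h1 := hφ (φ.symm v)
    have h2 := hc' (φ.symm v : P)
    rw [h1, Cfsg.Agent.H144.War.tr_apply, φ.apply_symm_apply] at h2
    have h3 : φ.symm (η v) = c • φ.symm v := Subtype.ext h2
    rw [← map_smul] at h3
    exact φ.symm.injective h3
  obtain ⟨g, rfl⟩ := AH.pj_surj t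
  have key : ∀ g' : AH.Gm m F, TT (sympBilin m F) η η g'.1 → ∃ u v : PSp m F, AH.pj m F g' =
      (u * AH.pj m F ⟨X₀, hX₀.1⟩ * u⁻¹) * (v * AH.pj m F ⟨X₀, hX₀.1⟩ * v⁻¹) := by
    rintro g' ⟨X, Z, hX, hZ, hXZ⟩
    obtain ⟨u, hu, hXu⟩ := hX₀.unique hB hN hX
    obtain ⟨v, hv, hZv⟩ := hX₀.unique hB hN hZ
    refine ⟨AH.pj m F ⟨u, hu⟩, AH.pj m F ⟨v, hv⟩, ?_⟩
    rw [← map_inv, ← map_inv, ← map_mul, ← map_mul, ← map_mul, ← map_mul, ← map_mul]
    congr 1
    apply Subtype.ext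
    rw [hXZ, hXu, hZv]
    rfl
  rcases hT g.1 g.2 (fun c hc => ht (AH.pj_eq_one_iff.2 ⟨c, hc⟩)) with h | h
  · exact key g h
  · have h1 : AH.pj m F (⟨ng g.1, ng_iso g.2⟩ * g⁻¹) = 1 := by
      rw [AH.pj_eq_one_iff]
      refine ⟨-1, fun v => ?_⟩
      rw [neg_one_smul]
      change ng g.1 (g.1⁻¹ v) = -v
      rw [ng_apply, app_inv]
    rw [map_mul, map_inv, mul_inv_eq_one] at h1
    rw [← h1]
    exact key _ h

/-- **`PSp_8(q)`, `q` odd**: one class of prime order `≥ 5` -/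
theorem prime_psp_eight (F : Type) [Field F] [Finite F] (h2 : (2 : F) ≠ 0) :
    ∃ x : PSp 4 F, (orderOf x).Prime ∧ Nat.Coprime (orderOf x) 6 ∧
      ∀ g : PSp 4 F, g ≠ 1 → ∃ u v : PSp 4 F, g = (u * x * u⁻¹) * (v * x * v⁻¹) := by
  obtain ⟨c, s, r, hgood, hc, hirr, hop, ho⟩ := exists_cls_prime h2
  obtain ⟨ξ, hξ, hξN, hξ1⟩ : ∃ ξ : (Fin 3 → F) ≃ₗ[F] (Fin 3 → F),
      (LinearMap.toMatrix' (ξ : (Fin 3 → F) →ₗ[F] (Fin 3 → F))).charpoly = cu s r ∧ ξ ^ (orderOf c) = 1 ∧ ξ ≠ 1 := by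
    refine ⟨Matrix.SpecialLinearGroup.toLin' c, ?_, ?_, ?_⟩
    · rw [Matrix.SpecialLinearGroup.toLin'_to_linearMap, LinearMap.toMatrix'_toLin', hc]
    · rw [← map_pow, pow_orderOf_eq_one, map_one]
    · intro h
      rw [← map_one (Matrix.SpecialLinearGroup.toLin' (n := Fin 3) (R := F))] at h
      have h1 := Matrix.SpecialLinearGroup.toLin'_injective h
      rw [h1, orderOf_one] at hop
      exact Nat.not_prime_one hop
  have hM : Module.finrank F (Fin 3 → F) = 3 := by simp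
  have hS := isSp_sympBilin 4 F
  have hV : Module.finrank F (Fin 4 ⊕ Fin 4 → F) = 8 := by
    rw [Module.finrank_fintype_fun_eq_card, Fintype.card_sum, Fintype.card_fin]
  obtain ⟨x, hx, hx1, h⟩ := sq_of_tt (m := 4) (N := orderOf c) (s1 ξ)
    (by rw [Module.finrank_prod, Module.finrank_self, hM]) (fun a ha => hξ1 (by
      have e1 := ha (0, 1)
      rw [s1_apply] at e1
      have e2 : (1 : F) = a := by simpa using congrArg Prod.snd e1
      subst e2
      ext v : 1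
      have e3 := ha (v, 0)
      rw [s1_apply, one_smul] at e3
      exact congrArg Prod.fst e3)) (by rw [s1_pow, hξN]; rfl) fun g hg hns =>
    tt_eight h2 hS.alt hS.nd hV hM
      (fun _ _ _ _ _ hB hN h6 _ hg hns => Cfsg.Agent.H744.TC.sp_six h2 hB hN h6 hgood hirr hξ hg hns)
      (fun X hX => Cfsg.Agent.H930.TC.hasType_swap hS.alt hS.nd hirr hξ hX)
      (Cfsg.Agent.H930.TC.sing_three hirr hξ) (Cfsg.Agent.H930.TC.eval_one_ne hirr)
      (Cfsg.Agent.H930.TC.eval_one_ne' hirr) hg hns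
  have hox : orderOf x = orderOf c := by
    rcases (Nat.dvd_prime hop).1 (orderOf_dvd_of_pow_eq_one hx) with h1 | h1
    · exact absurd (orderOf_eq_one_iff.1 h1) hx1
    · exact h1
  exact ⟨x, by rw [hox]; exact hop, by rw [hox]; exact ho, h⟩

theorem row3_psp_eight (F : Type) [Field F] [Finite F] (h2 : (2 : F) ≠ 0) : H210.TC.Row3 (PSp 4 F) := by
  obtain ⟨x, hx, hx6, h⟩ := prime_psp_eight F h2
  exact H210.TC.Row3.of_sq hx hx6 h

theorem pp_psp_eight (F : Type) [Field F] [Finite F] (h2 : (2 : F) ≠ 0) : H494.TC.PP (PSp 4 F) :=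
  prime_psp_eight F h2

end Cfsg.Agent.H7.TC
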