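import Cfsg.Agent.H144.War.Split

/-!
# S2464, row `PSp_8(q)`, `q` odd: the structure lemma (helper7)

An isometry `g` of a symplectic space of dimension `8` has the corner `1`, or `-g` has the corner `1`, or `g = 1` or
`g = -1` on a nondegenerate plane.
-/

set_option autoImplicit false
open Polynomial

noncomputable section

namespace Cfsg.Agent.H7.TC

open Cfsg.Agent.H144 Cfsg.Agent.H144.War

variable {F V : Type*} [Field F] [AddCommGroup V] [Module F V] [FiniteDimensional F V]

theorem gr_ng (g : V ≃ₗ[F] V) {Q : Submodule F V} (hQI : Inv g Q) :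
    gr (ng g) Q (inv_ng hQI) = ng (gr g Q hQI) := by
  ext w
  rfl

theorem dich [Finite F] {B : LinearMap.BilinForm F V} (hB : Alt B) {g : V ≃ₗ[F] V} (hg : Iso B g)
    (hno : ∀ Q : Submodule F V, Nd B Q → Module.finrank F Q = 2 → (¬ ∀ v ∈ Q, g v = v) ∧ ¬ ∀ v ∈ Q, g v = -v)
    (n : ℕ) : ∀ P : Submodule F V, Inv g P → Nd B P → Module.finrank F P = n → n ≤ 11 →
      (C1On B g P ∨ C1On B (ng g) P) ∧ (n < 6 → C1On B g P ∧ C1On B (ng g) P) := by
  induction n using Nat.strong_induction_on with
  | _ n ih =>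
  intro P hPI hPN hn hle
  rcases Nat.eq_zero_or_pos n with h0 | hpos
  · rw [h0] at hn
    have hbot : P = ⊥ := Submodule.finrank_eq_zero.1 hn
    subst hbot
    exact ⟨Or.inl (C1On.bot B g), fun _ => ⟨C1On.bot B g, C1On.bot B _⟩⟩
  · classical
    have hex : ∃ k, ∃ Q : Submodule F V, Q ≤ P ∧ Q ≠ ⊥ ∧ Inv g Q ∧ Nd B Q ∧ Module.finrank F Q = k :=
      ⟨n, P, le_rfl, by
        rintro rfl
        rw [finrank_bot] at hn
        omega, hPI, hPN, hn⟩
    obtain ⟨Q, hQP, hQ0, hQI, hQN, hQk⟩ := Nat.find_spec hex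
    have hmin : ∀ Q' : Submodule F V, Q' ≤ P → Q' ≠ ⊥ → Inv g Q' → Nd B Q' →
        Module.finrank F Q ≤ Module.finrank F Q' := by
      intro Q' h1 h2 h3 h4
      rw [hQk]
      exact Nat.find_min' hex ⟨Q', h1, h2, h3, h4, rfl⟩
    have hQnt : Nontrivial Q := Submodule.nontrivial_iff_ne_bot.2 hQ0
    have hIndec : Indec (B.restrict Q) (gr g Q hQI) := by
      intro R hRI hRN
      by_cases hR : R = ⊥
      · exact Or.inl hR
      right
      have h1 : Module.finrank F (R.map Q.subtype) = Module.finrank F R :=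
        (Submodule.equivMapOfInjective Q.subtype Q.injective_subtype R).finrank_eq.symm
      have h2 := hmin (R.map Q.subtype) ((Submodule.map_subtype_le Q R).trans hQP) (by
        intro h0
        apply hR
        rw [h0, finrank_bot] at h1
        exact Submodule.finrank_eq_zero.1 h1.symm) (by
        rintro _ ⟨x, hx, rfl⟩
        exact ⟨_, hRI x hx, rfl⟩) (by
        rintro _ ⟨x, hx, rfl⟩ h0
        have := hRN x hx (fun w hw => h0 w ⟨w, hw, rfl⟩)
        rw [this]; rfl)
      rw [h1] at h2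
      exact Submodule.eq_top_of_finrank_eq (le_antisymm (Submodule.finrank_le R) h2)
    have hIndec' : Indec (B.restrict Q) (ng (gr g Q hQI)) := fun R hRI hRN =>
      hIndec R (by have := inv_ng hRI; rwa [ng_ng] at this) hRN
    have hp1 := indec_main (restrict_alt hB Q) (restrict_nond hQN) (gr_iso hg Q hQI) hIndec
    have hp2 := indec_main (restrict_alt hB Q) (restrict_nond hQN) (ng_iso (gr_iso hg Q hQI)) hIndec'
    rw [ng_ng] at hp2
    have hc1 : C1 (B.restrict Q) (gr g Q hQI) → C1On B g Q := fun h => c1On_of_c1 hQI h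
    have hc2 : C1 (B.restrict Q) (ng (gr g Q hQI)) → C1On B (ng g) Q := fun h => by
      apply c1On_of_c1 (inv_ng hQI)
      rw [gr_ng]
      exact h
    have hone : C1On B g Q ∨ C1On B (ng g) Q := by
      rcases hp1 with h | ⟨-, h⟩
      · exact Or.inl (hc1 h)
      · exact Or.inr (hc2 h.1)
    have hboth : Module.finrank F Q < 6 → C1On B g Q ∧ C1On B (ng g) Q := by
      intro hlt
      constructor
      · rcases hp1 with h | ⟨-, -, a, ha, ha0, -⟩
        · exact hc1 h
        · exfalso
          have ha' : a = 0 := by omega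
          subst ha'
          refine (hno Q hQN (by omega)).2 fun v hv => ?_
          have := congrArg Subtype.val (ha0 rfl ⟨v, hv⟩)
          rw [ng_apply, Submodule.coe_neg, gr_apply] at this
          rw [← neg_eq_iff_eq_neg]
          exact this
      · rcases hp2 with h | ⟨-, -, a, ha, ha0, -⟩
        · exact hc2 h
        · exfalso
          have ha' : a = 0 := by omega
          subst ha'
          refine (hno Q hQN (by omega)).1 fun v hv => ?_
          exact congrArg Subtype.val (ha0 rfl ⟨v, hv⟩)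
    obtain ⟨R, hRP, hQRo, hQR, hRN, hfin, hRdef⟩ := split_off hB hQP hQN hPN
    have hRI : Inv g R := by
      rw [hRdef]
      intro v hv
      refine ⟨hPI v hv.1, fun w hw => ?_⟩
      rw [hg.adj']
      exact hv.2 _ (inv_mem_of_mem hQI w hw)
    have hQpos : 0 < Module.finrank F Q := Module.finrank_pos
    obtain ⟨r1, r2⟩ := ih (Module.finrank F R) (by omega) R hRI hRN rfl (by omega)
    have hs : ∀ {h : V ≃ₗ[F] V}, C1On B h Q → C1On B h R → C1On B h P := fun a b => by
      have := C1On.sup hB hQRo a b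
      rwa [hQR] at this
    refine ⟨?_, fun h6 => ?_⟩
    · by_cases hQ6 : Module.finrank F Q < 6
      · obtain ⟨q1, q2⟩ := hboth hQ6
        rcases r1 with r | r
        · exact Or.inl (hs q1 r)
        · exact Or.inr (hs q2 r)
      · obtain ⟨s1, s2⟩ := r2 (by omega)
        rcases hone with q | q
        · exact Or.inl (hs q s1)
        · exact Or.inr (hs q s2)
    · obtain ⟨q1, q2⟩ := hboth (by omega)
      obtain ⟨s1, s2⟩ := r2 (by omega)
      exact ⟨hs q1 s1, hs q2 s2⟩

theorem exists_case [Finite F] {B : LinearMap.BilinForm F V} (hB : Alt B) (hN : Nond B) (h8 : Module.finrank F V = 8)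
    {g : V ≃ₗ[F] V} (hg : Iso B g) : C1On B g ⊤ ∨ C1On B (ng g) ⊤ ∨
      ∃ Q : Submodule F V, Nd B Q ∧ Module.finrank F Q = 2 ∧ ((∀ v ∈ Q, g v = v) ∨ ∀ v ∈ Q, ng g v = v) := by
  by_cases hno : ∀ Q : Submodule F V, Nd B Q → Module.finrank F Q = 2 →
      (¬ ∀ v ∈ Q, g v = v) ∧ ¬ ∀ v ∈ Q, g v = -v
  · obtain ⟨h, -⟩ := dich hB hg hno 8 ⊤ (fun _ _ => trivial) (fun v _ h => hN v (fun w => h w trivial))
      (by rw [finrank_top, h8]) (by norm_num)
    rcases h with h | h
    · exact Or.inl h
    · exact Or.inr (Or.inl h)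
  · right
    right
    push Not at hno
    obtain ⟨Q, hQ, h2, h⟩ := hno
    refine ⟨Q, hQ, h2, ?_⟩
    by_cases h1 : ∀ v ∈ Q, g v = v
    · exact Or.inl h1
    · right
      intro v hv
      rw [ng_apply, h (by push Not at h1; exact h1) v hv, neg_neg]

end Cfsg.Agent.H7.TC
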