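import Cfsg.Agent.H144.TC.Even
import Cfsg.Agent.H144.TC.Boxes
import Cfsg.Agent.H7.TC.SpEightA

/-!
# S2464, row `PSp_8(q)`, `q` odd (helper7)

* `tt_gp` : a good pair gives `g = X Z`, `X` of type `ξ ⊕ 1`, `Z` of type `ξ⁻¹ ⊕ 1`;
* `tt_plane` : `g = 1` on a nondegenerate plane `Q`, `g` on `Q^⊥` a product of types `ξ`, `ζ`.
-/

set_option autoImplicit false
open Polynomial

noncomputable section

namespace Cfsg.Agent.H7.TC

open Cfsg.Agent.H144 Cfsg.Agent.H144.War Cfsg.Agent.H144.TC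

variable {F V M N : Type*} [Field F] [AddCommGroup V] [Module F V] [AddCommGroup M] [Module F M]
  [AddCommGroup N] [Module F N]

/-- a coordinate system of `P` with prescribed last vector and last coordinate -/
theorem exists_phi [FiniteDimensional F V] [FiniteDimensional F M] (ℓ : V →ₗ[F] F) (p : V) (hp : ℓ p = 1)
    (hM : Module.finrank F V = Module.finrank F M + 1) :
    ∃ φ : V ≃ₗ[F] (M × F), φ.symm (0, 1) = p ∧ ∀ v, ℓ v = (φ v).2 := by
  have hrk : Module.finrank F (LinearMap.ker ℓ) = Module.finrank F M := by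
    have h1 := LinearMap.finrank_range_add_finrank_ker ℓ
    have h2 : LinearMap.range ℓ = ⊤ := by
      rw [LinearMap.range_eq_top]
      intro c
      exact ⟨c • p, by rw [map_smul, hp, smul_eq_mul, mul_one]⟩
    rw [h2, finrank_top, Module.finrank_self] at h1
    omega
  let e : M ≃ₗ[F] LinearMap.ker ℓ := LinearEquiv.ofFinrankEq _ _ hrk.symm
  let T : (M × F) →ₗ[F] V := ((LinearMap.ker ℓ).subtype ∘ₗ (e : M →ₗ[F] LinearMap.ker ℓ)).coprod
    (LinearMap.toSpanSingleton F V p)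
  have hT : ∀ x : M × F, T x = (e x.1 : V) + x.2 • p := fun x => rfl
  have hℓT : ∀ x : M × F, ℓ (T x) = x.2 := by
    intro x
    rw [hT, map_add, map_smul, hp, smul_eq_mul, mul_one]
    have := (e x.1).2
    rw [LinearMap.mem_ker] at this
    rw [this, zero_add]
  have hinj : Function.Injective T := by
    rw [← LinearMap.ker_eq_bot, LinearMap.ker_eq_bot']
    intro x hx
    have h1 : x.2 = 0 := by rw [← hℓT, hx, map_zero]
    have h2 := hT x
    rw [hx, h1, zero_smul, add_zero] at h2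
    have h3 : e x.1 = 0 := Subtype.ext h2.symm
    rw [LinearEquiv.map_eq_zero_iff] at h3
    exact Prod.ext h3 h1
  let φ' : (M × F) ≃ₗ[F] V := LinearEquiv.ofInjectiveOfFinrankEq T hinj (by
    rw [Module.finrank_prod, Module.finrank_self, hM])
  have hφ' : ∀ x, φ' x = T x := fun x => rfl
  refine ⟨φ'.symm, ?_, fun v => ?_⟩
  · rw [LinearEquiv.symm_symm, hφ', hT]
    simp
  · obtain ⟨x, rfl⟩ := φ'.surjective v
    rw [LinearEquiv.symm_apply_apply, hφ', hℓT]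

theorem tt_gp [FiniteDimensional F V] [FiniteDimensional F M] {B : LinearMap.BilinForm F V} (hB : Alt B) (hN : Nond B)
    {g : V ≃ₗ[F] V} (hg : Iso B g) (hGP : GP B g ⊤) {ξ : M ≃ₗ[F] M} {f f' : F[X]} (hξ : Sing ξ f f')
    (e1 : f.eval 1 ≠ 0) (e1' : f'.eval 1 ≠ 0) (hM : Module.finrank F V = 2 * (Module.finrank F M + 1)) :
    TT B (s1 ξ) (s1 ξ⁻¹) g := by
  obtain ⟨P, Q, ⟨hP, hQ, hPQ, hc⟩, p, hp, q, hq, hpq, hgp, hgq⟩ := hGP
  have hf := finrank_two hB hN hP hQ hPQ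
  obtain ⟨p', hp', hp'e⟩ : ∃ p' : V, p' ∈ P ∧ p' = (B p q)⁻¹ • p := ⟨_, P.smul_mem _ hp, rfl⟩
  have h1 : B p' q = 1 := by
    rw [hp'e, LinearMap.map_smul₂, smul_eq_mul, inv_mul_cancel₀ hpq]
  have hgp' : B (g p') p' = 0 := by
    simp only [hp'e, map_smul, LinearMap.smul_apply, hgp, smul_zero]
  obtain ⟨φ, hφ1, hφ2⟩ := exists_phi (M := M) (V := P) ((B.flip q) ∘ₗ P.subtype) ⟨p', hp'⟩ h1 (by omega)
  refine tt_of_corner2 hB hN hP hQ hPQ hξ (sing_inv hξ) e1 e1' e1' e1 φ φ hq (fun v => hφ2 v)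
    (A := LinearEquiv.refl F P) (fun v => ?_) hg (fun v => hc v v.2) (fun v hv => ?_) (fun q' hq' h => ?_)
  · rw [← s1_inv, tr_apply, tr_apply, φ.apply_symm_apply, app_inv, φ.symm_apply_apply]
    rfl
  · rw [hφ1] at hv ⊢
    have : (v : V) = p' := congrArg Subtype.val hv
    rw [this]
    exact hgp'
  · have : q' = q := by
      rw [← sub_eq_zero]
      apply eq_zero_of_orth hN hPQ
      · intro w hw
        apply hB.zero
        rw [map_sub, sub_eq_zero]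
        exact h ⟨w, hw⟩
      · intro w hw
        exact hQ _ (Q.sub_mem hq' hq) _ hw
    rw [this]
    exact hgq

/-- types of orthogonal sums -/
theorem type_ds [FiniteDimensional F V] {B : LinearMap.BilinForm F V} (hB : Alt B) {R S : Submodule F V}
    (hRS : Orth B R S) (hc : IsCompl R S) {ξ : M ≃ₗ[F] M} {ζ : N ≃ₗ[F] N} {X : R ≃ₗ[F] R} {Y : S ≃ₗ[F] S}
    (h : HasType (B.restrict R) ξ X) (h' : HasType (B.restrict S) ζ Y) :
    HasType B (ξ.prodCongr ζ) (ds hc X Y) := by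
  obtain ⟨hX, P, Q, hP, hQ, hPQ, hXQ, φ, hφ⟩ := h
  obtain ⟨hY, P₂, Q₂, hP₂, hQ₂, hPQ₂, hYQ, ψ, hψ⟩ := h'
  have oRS : ∀ (r : R) (s : S), B r s = 0 := fun r s => hRS r r.2 s s.2
  have oSR : ∀ (s : S) (r : R), B s r = 0 := fun s r => hB.zero (hRS r r.2 s s.2)
  let T : (M × N) →ₗ[F] V := (R.subtype ∘ₗ P.subtype ∘ₗ (φ.symm : M →ₗ[F] P)).coprod
    (S.subtype ∘ₗ P₂.subtype ∘ₗ (ψ.symm : N →ₗ[F] P₂))
  have hT : ∀ x : M × N, T x = ((φ.symm x.1 : P) : R) + ((ψ.symm x.2 : P₂) : S) := fun x => rfl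
  have hinj : Function.Injective T := by
    rw [← LinearMap.ker_eq_bot, LinearMap.ker_eq_bot']
    intro x hx
    rw [hT] at hx
    have h1 : (((φ.symm x.1 : P) : R) : V) = 0 := by
      apply Submodule.disjoint_def.1 hc.disjoint _ ((φ.symm x.1 : P) : R).2
      rw [eq_neg_of_add_eq_zero_left hx]
      exact S.neg_mem ((ψ.symm x.2 : P₂) : S).2
    rw [h1, zero_add] at hx
    have h2 : φ.symm x.1 = 0 := Subtype.ext (Subtype.ext h1)
    have h3 : ψ.symm x.2 = 0 := Subtype.ext (Subtype.ext hx)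
    exact Prod.ext (φ.symm.map_eq_zero_iff.1 h2) (ψ.symm.map_eq_zero_iff.1 h3)
  refine ⟨ds_iso hB hc hRS hX hY, LinearMap.range T, Q.map R.subtype ⊔ Q₂.map S.subtype, ?_, ?_, ?_, ?_,
    (LinearEquiv.ofInjective T hinj).symm, ?_⟩
  · rintro _ ⟨x, rfl⟩ _ ⟨y, rfl⟩
    have h1 : B ((φ.symm x.1 : P) : R) ((φ.symm y.1 : P) : R) = 0 := hP _ (φ.symm x.1).2 _ (φ.symm y.1).2
    have h2 : B ((ψ.symm x.2 : P₂) : S) ((ψ.symm y.2 : P₂) : S) = 0 := hP₂ _ (ψ.symm x.2).2 _ (ψ.symm y.2).2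
    rw [hT, hT, map_add, map_add, LinearMap.add_apply, LinearMap.add_apply, h1, h2, oRS, oSR]
    simp
  · intro x hx y hy
    obtain ⟨_, ⟨a, ha, rfl⟩, _, ⟨b, hb, rfl⟩, rfl⟩ := Submodule.mem_sup.1 hx
    obtain ⟨_, ⟨a', ha', rfl⟩, _, ⟨b', hb', rfl⟩, rfl⟩ := Submodule.mem_sup.1 hy
    have h1 : B (a : R) (a' : R) = 0 := hQ _ ha _ ha'
    have h2 : B (b : S) (b' : S) = 0 := hQ₂ _ hb _ hb'
    rw [Submodule.subtype_apply, Submodule.subtype_apply, Submodule.subtype_apply, Submodule.subtype_apply,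
      map_add, map_add, LinearMap.add_apply, LinearMap.add_apply, h1, h2, oRS, oSR]
    simp
  · rw [eq_top_iff]
    intro v _
    obtain ⟨r, hr, s, hs, rfl⟩ := mem_sup_top hc.sup_eq_top v
    obtain ⟨p, hp, q, hq, hpq⟩ := mem_sup_top hPQ ⟨r, hr⟩
    obtain ⟨p₂, hp₂, q₂, hq₂, hpq₂⟩ := mem_sup_top hPQ₂ ⟨s, hs⟩
    have h1 : r = (p : V) + (q : V) := (congrArg Subtype.val hpq).symm
    have h2 : s = (p₂ : V) + (q₂ : V) := (congrArg Subtype.val hpq₂).symm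
    have h3 : r + s = T (φ ⟨p, hp⟩, ψ ⟨p₂, hp₂⟩) + ((q : V) + (q₂ : V)) := by
      rw [hT, h1, h2]
      simp only [LinearEquiv.symm_apply_apply]
      abel
    rw [h3]
    exact Submodule.add_mem_sup ⟨_, rfl⟩ (Submodule.add_mem_sup ⟨q, hq, rfl⟩ ⟨q₂, hq₂, rfl⟩)
  · intro x hx
    obtain ⟨_, ⟨a, ha, rfl⟩, _, ⟨b, hb, rfl⟩, rfl⟩ := Submodule.mem_sup.1 hx
    rw [Submodule.subtype_apply, Submodule.subtype_apply, ds_apply]
    exact Submodule.add_mem_sup ⟨_, hXQ a ha, rfl⟩ ⟨_, hYQ b hb, rfl⟩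
  · intro v
    obtain ⟨x, rfl⟩ := (LinearEquiv.ofInjective T hinj).surjective v
    rw [tr_apply, LinearEquiv.symm_symm, LinearEquiv.symm_apply_apply]
    change ds hc X Y (T x) = T (ξ x.1, ζ x.2)
    rw [hT, hT, ds_apply, hφ, hψ, tr_apply, tr_apply, φ.apply_symm_apply, ψ.apply_symm_apply]

/-- the identity of a plane is of type `1` -/
theorem type_plane [FiniteDimensional F V] [Finite F] {B : LinearMap.BilinForm F V} (hB : Alt B) {S : Submodule F V}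
    (hS : Nd B S) (h2 : Module.finrank F S = 2) : HasType (B.restrict S) (LinearEquiv.refl F F) (1 : S ≃ₗ[F] S) := by
  have hBS := restrict_alt hB S
  have hNS := restrict_nond hS
  obtain ⟨P, Q, hP, hQ, hPQ, -⟩ := exists_lag (B := B.restrict S) hBS (R := ⊤) (fun v _ h => hNS v fun w => h w trivial)
    (g := 1) (fun v w => rfl) (fun v _ => rfl)
  have h3 := finrank_two hBS hNS hP hQ hPQ
  refine ⟨fun v w => rfl, P, Q, hP, hQ, hPQ, fun v hv => hv,
    LinearEquiv.ofFinrankEq P F (by rw [Module.finrank_self]; omega), fun v => ?_⟩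
  rw [tr_apply, LinearEquiv.refl_apply, LinearEquiv.symm_apply_apply]
  rfl

/-- `g = 1` on a nondegenerate plane -/
theorem tt_plane [FiniteDimensional F V] [Finite F] {B : LinearMap.BilinForm F V} (hB : Alt B) {R S : Submodule F V}
    (hRS : Orth B R S) (hc : IsCompl R S) (hS : Nd B S) (h2 : Module.finrank F S = 2) {ξ : M ≃ₗ[F] M}
    {ζ : N ≃ₗ[F] N} {g : V ≃ₗ[F] V} (hI : Inv g R) (h1 : ∀ v ∈ S, g v = v)
    (h : TT (B.restrict R) ξ ζ (gr g R hI)) : TT B (s1 ξ) (s1 ζ) g := by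
  obtain ⟨X, Z, hX, hZ, hXZ⟩ := h
  refine ⟨ds hc X 1, ds hc Z 1, type_ds hB hRS hc hX (type_plane hB hS h2), type_ds hB hRS hc hZ (type_plane hB hS h2),
    ?_⟩
  ext v
  obtain ⟨r, hr, s, hs, rfl⟩ := mem_sup_top hc.sup_eq_top v
  have e1 := ds_apply hc Z 1 ⟨r, hr⟩ ⟨s, hs⟩
  have e2 := ds_apply hc X 1 (Z ⟨r, hr⟩) ⟨s, hs⟩
  have e3 : ((gr g R hI) ⟨r, hr⟩ : V) = g r := rfl
  rw [hXZ] at e3
  simp only [LinearEquiv.coe_one, id_eq] at e1 e2
  rw [LinearEquiv.mul_apply, e1, e2, map_add, h1 s hs, ← e3]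
  rfl

end Cfsg.Agent.H7.TC
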