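import Cfsg.Agent.H7.TC.SpEight
import Cfsg.Agent.H144.TC.GPEight
import Cfsg.Agent.H144.AH.Base

/-!
# S2464, row `PSp_8(q)`, `q` odd: assembly (helper7)

* `tt_eight` : `g` or `-g` is a product of two isometries of type `ξ ⊕ 1`;
* `six_of_tt` : from isometries to `PSp_8(q)`.
-/

set_option autoImplicit false
open Polynomial

noncomputable section

namespace Cfsg.Agent.H7.TC

open Cfsg.Agent.H144 Cfsg.Agent.H144.War Cfsg.Agent.H144.TC

/-- the row `PSp_6` : a nonscalar isometry of a space of dimension `6` -/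
def SixBox {F M : Type} [Field F] [AddCommGroup M] [Module F M] (ξ : M ≃ₗ[F] M) : Prop :=
  ∀ (V : Type) [AddCommGroup V] [Module F V] [FiniteDimensional F V] (B : LinearMap.BilinForm F V), Alt B → Nond B →
    Module.finrank F V = 6 → ∀ g : V ≃ₗ[F] V, Iso B g → (∀ c : F, ¬ ∀ v, g v = c • v) → TT B ξ ξ g

variable {F V M : Type} [Field F] [AddCommGroup V] [Module F V] [AddCommGroup M] [Module F M]

theorem inv_perp {B : LinearMap.BilinForm F V} {g : V ≃ₗ[F] V} [FiniteDimensional F V] (hg : Iso B g)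
    {S : Submodule F V} (hI : Inv g S) : Inv g (⊤ ⊓ perp B S) := by
  intro v hv
  refine ⟨trivial, fun w hw => ?_⟩
  rw [hg.adj']
  exact hv.2 _ (inv_mem_of_mem hI w hw)

theorem tt_plane_ns [FiniteDimensional F V] [Finite F] {B : LinearMap.BilinForm F V} (hB : Alt B) (hN : Nond B)
    (h8 : Module.finrank F V = 8) {ξ : M ≃ₗ[F] M} (hE : SixBox ξ) {S : Submodule F V} (hS : Nd B S)
    (hS2 : Module.finrank F S = 2) {g : V ≃ₗ[F] V} (hg : Iso B g) (h1 : ∀ v ∈ S, g v = v)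
    (hns : ∀ c : F, ¬ ∀ v ∈ (⊤ ⊓ perp B S : Submodule F V), g v = c • v) : TT B (s1 ξ) (s1 ξ) g := by
  obtain ⟨R, -, o, hSR, hR, hf, hRe⟩ := split_off hB (le_top : S ≤ ⊤) hS (fun v _ h => hN v fun w => h w trivial)
  subst hRe
  have hSI : Inv g S := fun v hv => by rw [h1 v hv]; exact hv
  have hI := inv_perp hg hSI
  have hc : IsCompl (⊤ ⊓ perp B S) S := ⟨(disjoint_of_orth hB o hS).symm, codisjoint_iff.2 (by rw [sup_comm]; exact hSR)⟩
  refine tt_plane hB (o.symm hB) hc hS hS2 hI h1 (hE _ _ (restrict_alt hB _) (restrict_nond hR) ?_ _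
    (gr_iso hg _ hI) fun c h => hns c fun v hv => ?_)
  · rw [finrank_top, h8, hS2] at hf
    omega
  · exact congrArg Subtype.val (h ⟨v, hv⟩)

theorem tt_plane_or [FiniteDimensional F V] [Finite F] (h2 : (2 : F) ≠ 0) {B : LinearMap.BilinForm F V} (hB : Alt B)
    (hN : Nond B) (h8 : Module.finrank F V = 8) {ξ : M ≃ₗ[F] M} (hE : SixBox ξ) {S : Submodule F V} (hS : Nd B S)
    (hS2 : Module.finrank F S = 2) {g : V ≃ₗ[F] V} (hg : Iso B g) (h1 : ∀ v ∈ S, g v = v)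
    (hns : ¬ ∀ v, g v = v) : TT B (s1 ξ) (s1 ξ) g ∨ TT B (s1 ξ) (s1 ξ) (ng g) := by
  by_cases hsc : ∃ c : F, ∀ v ∈ (⊤ ⊓ perp B S : Submodule F V), g v = c • v
  swap
  · exact Or.inl (tt_plane_ns hB hN h8 hE hS hS2 hg h1 fun c h => hsc ⟨c, h⟩)
  obtain ⟨c, hc⟩ := hsc
  obtain ⟨R, -, o, hSR, hR, hf, hRe⟩ := split_off hB (le_top : S ≤ ⊤) hS (fun v _ h => hN v fun w => h w trivial)
  rw [← hRe] at hc
  rw [finrank_top, h8, hS2] at hf
  have hR6 : Module.finrank F R = 2 * 3 := by omega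
  -- `c = -1`
  have hR0 : R ≠ ⊥ := by
    rintro h
    rw [h, finrank_bot] at hR6
    omega
  obtain ⟨e, he, he0⟩ := Submodule.exists_mem_ne_zero_of_ne_bot hR0
  obtain ⟨f, hf', hef⟩ : ∃ f ∈ R, B e f ≠ 0 := by
    by_contra hcon
    push Not at hcon
    exact he0 (hR e he hcon)
  have hcc : (c - 1) * (c + 1) = 0 := by
    have h3 := hg e f
    rw [hc e he, hc f hf', map_smul, map_smul, LinearMap.smul_apply, smul_eq_mul, smul_eq_mul] at h3
    have h4 : (c * c - 1) * B e f = 0 := by linear_combination h3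
    have h5 := (mul_eq_zero.1 h4).resolve_right hef
    linear_combination h5
  have hc1 : c = -1 := by
    rcases mul_eq_zero.1 hcc with h | h
    · exfalso
      apply hns
      intro v
      obtain ⟨s, hs, r, hr, rfl⟩ := mem_sup_top hSR v
      rw [map_add, h1 s hs, hc r hr, sub_eq_zero.1 h, one_smul]
    · linear_combination h
  subst hc1
  have hgR : ∀ v ∈ R, ng g v = v := by
    intro v hv
    rw [ng_apply, hc v hv, neg_one_smul, neg_neg]
  -- another plane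
  right
  obtain ⟨S', hS'R, hS', hS'2⟩ := exists_sub hB hR hR6 1 (by norm_num)
  obtain ⟨R', hR'R, o', hSR', hR', hf'', -⟩ := split_off hB hS'R hS' hR
  refine tt_plane_ns hB hN h8 hE hS' (by rw [hS'2]) (ng_iso hg) (fun v hv => hgR v (hS'R hv)) fun d hd => ?_
  have hR'0 : R' ≠ ⊥ := by
    rintro h
    rw [h, finrank_bot] at hf''
    omega
  have hS0 : S ≠ ⊥ := by
    rintro h
    rw [h, finrank_bot] at hS2
    omega
  obtain ⟨w, hw, hw0⟩ := Submodule.exists_mem_ne_zero_of_ne_bot hR'0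
  obtain ⟨v, hv, hv0⟩ := Submodule.exists_mem_ne_zero_of_ne_bot hS0
  have e1 := hd w ⟨trivial, fun x hx => o' x hx w hw⟩
  have e2 := hd v ⟨trivial, fun x hx => hB.zero (o v hv x (hS'R hx))⟩
  rw [hgR w (hR'R hw)] at e1
  rw [ng_apply, h1 v hv] at e2
  have d1 : d = 1 := by
    have : (d - 1) • w = 0 := by rw [sub_smul, one_smul, ← e1, sub_self]
    exact sub_eq_zero.1 ((smul_eq_zero.1 this).resolve_right hw0)
  rw [d1, one_smul] at e2
  have : (2 : F) • v = 0 := by rw [two_smul]; nth_rewrite 1 [← e2]; exact neg_add_cancel v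
  exact hv0 ((smul_eq_zero.1 this).resolve_left h2)

/-- **the isometries** -/
theorem tt_eight [FiniteDimensional F V] [Finite F] [FiniteDimensional F M] (h2 : (2 : F) ≠ 0)
    {B : LinearMap.BilinForm F V} (hB : Alt B) (hN : Nond B) (h8 : Module.finrank F V = 8) {ξ : M ≃ₗ[F] M}
    (hM : Module.finrank F M = 3) (hE : SixBox ξ) (hW : ∀ X : V ≃ₗ[F] V, HasType B (s1 ξ⁻¹) X → HasType B (s1 ξ) X)
    {f f' : F[X]} (hξ : Sing ξ f f') (e1 : f.eval 1 ≠ 0) (e1' : f'.eval 1 ≠ 0)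
    {g : V ≃ₗ[F] V} (hg : Iso B g) (hns : ∀ c : F, ¬ ∀ v, g v = c • v) :
    TT B (s1 ξ) (s1 ξ) g ∨ TT B (s1 ξ) (s1 ξ) (ng g) := by
  have hgp : ∀ g : V ≃ₗ[F] V, Iso B g → C1On B g ⊤ → TT B (s1 ξ) (s1 ξ) g := by
    intro g hg hc
    have hc' : C1 B g := hc
    obtain ⟨X, Z, hX, hZ, e⟩ := tt_gp hB hN hg (gp_eight h2 hB hN hg h8 hc') hξ e1 e1' (by rw [h8, hM])
    exact ⟨X, Z, hX, hW Z hZ, e⟩
  rcases exists_case hB hN h8 hg with h | h | ⟨S, hS, hS2, h | h⟩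
  · exact Or.inl (hgp g hg h)
  · exact Or.inr (hgp _ (ng_iso hg) h)
  · refine tt_plane_or h2 hB hN h8 hE hS hS2 hg h fun h0 => hns 1 fun v => by rw [h0 v, one_smul]
  · have h3 := tt_plane_or h2 hB hN h8 hE hS hS2 (ng_iso hg) h fun h0 => hns (-1) fun v => by
      rw [neg_one_smul, ← h0 v, ng_apply, neg_neg, ← ng_apply, h0]
    rw [ng_ng] at h3
    exact h3.symm

/-! ### `PSp` -/

section psp

open Cfsg Cfsg.Agent.H955 Cfsg.Agent.ClassicalGeometry.SympBasic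

theorem exists_type [FiniteDimensional F V] [Finite F] [FiniteDimensional F M] {B : LinearMap.BilinForm F V}
    (hB : Alt B) (hN : Nond B) (η : M ≃ₗ[F] M) (hM : Module.finrank F V = 2 * Module.finrank F M) {N : ℕ}
    (hη : η ^ N = 1) : ∃ X : V ≃ₗ[F] V, HasType B η X ∧ X ^ N = 1 := by
  obtain ⟨P, Q, hP, hQ, hPQ, -⟩ := exists_lag hB (R := ⊤) (fun v _ h => hN v fun w => h w trivial)
    (g := 1) (fun v w => rfl) (fun v _ => rfl)
  have h3 := finrank_two hB hN hP hQ hPQ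
  let φ : P ≃ₗ[F] M := LinearEquiv.ofFinrankEq P M (by omega)
  obtain ⟨X, hX, hXP, hXQ⟩ := levi hB hN hP hQ hPQ (tr φ η)
  refine ⟨X, ⟨hX, P, Q, hP, hQ, hPQ, hXQ, φ, hXP⟩, ?_⟩
  have h4 := levi_unique hB hN hP hQ hPQ (Cfsg.Agent.H144.War.Iso.pow hX N) (mem_pow hXQ N) 1 (one_mul 1) (fun v hv => by
    have h5 := pow_restrict hXP N ⟨v, hv⟩
    rw [← tr_pow, hη, tr_one] at h5
    rw [h5, one_smul]
    rfl)
  ext v
  rw [h4 v, one_smul]
  rfl

/-- **from isometries to `PSp`** -/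
theorem six_of_tt [Finite F] {m : ℕ} [FiniteDimensional F M] (η : M ≃ₗ[F] M) (hM : Module.finrank F M = m) {N : ℕ}
    (hN6 : N.Coprime 6) (hη : η ^ N = 1)
    (hT : ∀ g : (Fin m ⊕ Fin m → F) ≃ₗ[F] (Fin m ⊕ Fin m → F), Iso (sympBilin m F) g →
      (∀ c : F, ¬ ∀ v, g v = c • v) → TT (sympBilin m F) η η g ∨ TT (sympBilin m F) η η (ng g)) :
    ∃ x y : PSp m F, Nat.Coprime (orderOf x) 6 ∧ Nat.Coprime (orderOf y) 6 ∧
      ∀ g : PSp m F, g ≠ 1 → ∃ u v : PSp m F, g = (u * x * u⁻¹) * (v * y * v⁻¹) := by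
  have hS := isSp_sympBilin m F
  have hV : Module.finrank F (Fin m ⊕ Fin m → F) = 2 * m := by
    rw [Module.finrank_fintype_fun_eq_card, Fintype.card_sum, Fintype.card_fin]
    ring
  have hB : Alt (sympBilin m F) := hS.alt
  have hN : Nond (sympBilin m F) := hS.nd
  obtain ⟨X₀, hX₀, hX₀N⟩ := exists_type hB hN η (by rw [hV, hM]) hη
  have ho : Nat.Coprime (orderOf (AH.pj m F ⟨X₀, hX₀.1⟩)) 6 := by
    refine Nat.Coprime.coprime_dvd_left (orderOf_dvd_of_pow_eq_one (n := N) ?_) hN6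
    rw [← map_pow]
    have : (⟨X₀, hX₀.1⟩ : AH.Gm m F) ^ N = 1 := Subtype.ext hX₀N
    rw [this, map_one]
  refine ⟨_, _, ho, ho, fun t ht => ?_⟩
  obtain ⟨g, rfl⟩ := AH.pj_surj t
  have key : ∀ g' : AH.Gm m F, TT (sympBilin m F) η η g'.1 → ∃ u v : PSp m F, AH.pj m F g' =
      (u * AH.pj m F ⟨X₀, hX₀.1⟩ * u⁻¹) * (v * AH.pj m F ⟨X₀, hX₀.1⟩ * v⁻¹) := by
    rintro g' ⟨X, Z, hX, hZ, hXZ⟩
    obtain ⟨u, hu, hXu⟩ := hX₀.unique hB hN hX
    obtain ⟨v, hv, hZv⟩ := hX₀.unique hB hN hZ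
    refine ⟨AH.pj m F ⟨u, hu⟩, AH.pj m F ⟨v, hv⟩, ?_⟩
    rw [← map_inv, ← map_inv, ← map_mul, ← map_mul, ← map_mul, ← map_mul, ← map_mul]
    congr 1
    apply Subtype.ext
    rw [hXZ, hXu, hZv]
    rfl
  rcases hT g.1 g.2 (fun c hc => ht (AH.pj_eq_one_iff.2 ⟨c, hc⟩)) with h | h
  · exact key g h
  · have h1 : AH.pj m F (⟨ng g.1, ng_iso g.2⟩ * g⁻¹) = 1 := by
      rw [AH.pj_eq_one_iff]
      refine ⟨-1, fun v => ?_⟩
      rw [neg_one_smul]
      change ng g.1 (g.1⁻¹ v) = -v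
      rw [ng_apply, app_inv]
    rw [map_mul, map_inv, mul_inv_eq_one] at h1
    rw [← h1]
    exact key _ h

end psp

end Cfsg.Agent.H7.TC
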