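import Cfsg.Agent.H7.TC.SpEightRow
import Cfsg.Agent.H744.TC.SpSix

/-!
# S2464, the row `PSp_8(q)`, `q` odd: the theorem (helper7)

`six_psp_eight` : there are `x, y` of order prime to `6` such that every `g ≠ 1` is a product of a conjugate of `x` and
a conjugate of `y`.
-/

set_option autoImplicit false

namespace Cfsg.Agent.H7.TC

open Cfsg

theorem six_psp_eight (F : Type) [Field F] [Finite F] (h2 : (2 : F) ≠ 0) :
    ∃ x y : PSp 4 F, Nat.Coprime (orderOf x) 6 ∧ Nat.Coprime (orderOf y) 6 ∧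
      ∀ g : PSp 4 F, g ≠ 1 → ∃ u v : PSp 4 F, g = (u * x * u⁻¹) * (v * y * v⁻¹) :=
  six_psp_eight_of h2 fun _ _ hgood hirr _ hξ _ _ _ _ _ hB hN h6 _ hg hns =>
    Cfsg.Agent.H744.TC.sp_six h2 hB hN h6 hgood hirr hξ hg hns

end Cfsg.Agent.H7.TC
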