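import Cfsg.Agent.H7.TC.SpEightB
import Cfsg.Agent.H930.TC.Swap
import Cfsg.Agent.H538.TC.SLThreeC

/-!
# S2464, the row `PSp_8(q)`, `q` odd (helper7)
-/

set_option autoImplicit false
open Polynomial

noncomputable section

namespace Cfsg.Agent.H7.TC

open Cfsg Cfsg.Agent.H144 Cfsg.Agent.H144.War Cfsg.Agent.H144.TC Cfsg.Agent.H538.TC Cfsg.Agent.H955
  Cfsg.Agent.ClassicalGeometry.SympBasic
open Cfsg.Agent.H126.M3 (cu)

variable {F : Type} [Field F] [Finite F]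

theorem exists_cls (h2 : (2 : F) ≠ 0) : ∃ (c : Matrix.SpecialLinearGroup (Fin 3) F) (s r : F), Good s r ∧
    (c : Matrix (Fin 3) (Fin 3) F).charpoly = cu s r ∧ Irreducible (cu s r) ∧ (orderOf c).Coprime 6 := by
  have : Fintype F := Fintype.ofFinite F
  have h0 := Nat.cast_card_eq_zero F
  rw [← Nat.card_eq_fintype_card] at h0
  have h1 : 1 < Nat.card F := Finite.one_lt_card
  have hc2 : Nat.card F ≠ 2 := by
    intro h
    rw [h] at h0
    exact h2 (by exact_mod_cast h0)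
  have hc4 : Nat.card F ≠ 4 := by
    intro h
    rw [h] at h0
    have h5 : (2 : F) * 2 = 0 := by
      have h6 : ((4 : ℕ) : F) = 4 := by norm_num
      rw [h6] at h0
      linear_combination h0
    exact h2 (mul_self_eq_zero.1 h5)
  by_cases h3 : Nat.card F = 3
  · obtain ⟨c, hc, h4, h5, -⟩ := exists_class_three h3
    exact ⟨c, 1, -1, good_three (by rw [← Nat.card_eq_fintype_card, h3]), hc, hc ▸ h4, by rw [h5]; norm_num⟩
  · obtain ⟨z, hz, z1, z2, z3⟩ := exists_z (F := F) (by rw [← Nat.card_eq_fintype_card]; omega)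
    obtain ⟨s, hs, h6, hs1⟩ := exists_s (q := Nat.card F) (by omega)
    obtain ⟨c, hc, ho, -⟩ := exists_class (by omega) hs h6 hs1
    have e := Cfsg.Agent.H538.TC.charpoly_of c.2 rfl rfl
    exact ⟨c, _, _, good_of hz z1 z2 z3 _ _, e, e ▸ hc, by rw [ho]; exact h6⟩

theorem s1_pow {M : Type} [AddCommGroup M] [Module F M] (ξ : M ≃ₗ[F] M) (k : ℕ) : (s1 ξ) ^ k = s1 (ξ ^ k) := by
  have h1 : (LinearEquiv.refl F F) ^ k = LinearEquiv.refl F F := one_pow k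
  rw [s1, prodCongr_pow, h1, s1]

theorem six_psp_eight_of (h2 : (2 : F) ≠ 0)
    (hE : ∀ (s r : F), Good s r → Irreducible (cu s r) → ∀ ξ : (Fin 3 → F) ≃ₗ[F] (Fin 3 → F),
      (LinearMap.toMatrix' (ξ : (Fin 3 → F) →ₗ[F] (Fin 3 → F))).charpoly = cu s r → SixBox ξ) :
    ∃ x y : PSp 4 F, Nat.Coprime (orderOf x) 6 ∧ Nat.Coprime (orderOf y) 6 ∧
      ∀ g : PSp 4 F, g ≠ 1 → ∃ u v : PSp 4 F, g = (u * x * u⁻¹) * (v * y * v⁻¹) := by
  obtain ⟨c, s, r, hgood, hc, hirr, ho⟩ := exists_cls h2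
  obtain ⟨ξ, hξ, hξN⟩ : ∃ ξ : (Fin 3 → F) ≃ₗ[F] (Fin 3 → F),
      (LinearMap.toMatrix' (ξ : (Fin 3 → F) →ₗ[F] (Fin 3 → F))).charpoly = cu s r ∧ ξ ^ (orderOf c) = 1 := by
    refine ⟨Matrix.SpecialLinearGroup.toLin' c, ?_, ?_⟩
    · rw [Matrix.SpecialLinearGroup.toLin'_to_linearMap, LinearMap.toMatrix'_toLin', hc]
    · rw [← map_pow, pow_orderOf_eq_one, map_one]
  have hM : Module.finrank F (Fin 3 → F) = 3 := by simp
  have hS := isSp_sympBilin 4 F
  have hV : Module.finrank F (Fin 4 ⊕ Fin 4 → F) = 8 := by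
    rw [Module.finrank_fintype_fun_eq_card, Fintype.card_sum, Fintype.card_fin]
  refine six_of_tt (s1 ξ) (by rw [Module.finrank_prod, Module.finrank_self, hM]) ho (by
    rw [s1_pow, hξN]; rfl) fun g hg hns => ?_
  exact tt_eight h2 hS.alt hS.nd hV hM (hE s r hgood hirr ξ hξ)
    (fun X hX => Cfsg.Agent.H930.TC.hasType_swap hS.alt hS.nd hirr hξ hX)
    (Cfsg.Agent.H930.TC.sing_three hirr hξ) (Cfsg.Agent.H930.TC.eval_one_ne hirr)
    (Cfsg.Agent.H930.TC.eval_one_ne' hirr) hg hns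

end Cfsg.Agent.H7.TC
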