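import Mathlib.LinearAlgebra.BilinearForm.Properties
import Mathlib.LinearAlgebra.FiniteDimensional.Lemmas
import Mathlib.Tactic

/-!
# S2464, row `PSp_4(q)`: the frame lemma (helper7)

`V` a symplectic space of dimension 4 over a field with at least 4 elements, `g` an isometry with
`ω(u, g u) ≠ 0` for some `u`. Then `g` is a scalar times a transvection, or there are `x, y` with
`ω(x, y) = 0`, `ω(y, g x) = 0`, `ω(x, g x) ≠ 0`, `ω(y, g y) ≠ 0`.
-/

set_option autoImplicit false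

namespace Cfsg.Agent.H7.TC

open Module

variable {F V : Type*} [Field F] [AddCommGroup V] [Module F V]

/-- the frame with two prescribed vectors -/
def HasFrame (ω : LinearMap.BilinForm F V) (g : V →ₗ[F] V) : Prop :=
  ∃ x y : V, ω x y = 0 ∧ ω y (g x) = 0 ∧ ω x (g x) ≠ 0 ∧ ω y (g y) ≠ 0

theorem exists_ne_affine {A B : F} (hB : B ≠ 0) : ∃ p : F, A + B * p ≠ 0 := by
  by_cases hA : A = 0
  · exact ⟨1, by rw [hA, zero_add, mul_one]; exact hB⟩
  · exact ⟨0, by rw [mul_zero, add_zero]; exact hA⟩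

section
variable {ω : LinearMap.BilinForm F V} {g : V →ₗ[F] V} {u u₁ w₀ w₁ : V} {s c β β₀ β₁ d : F}

theorem caseB (ha : ω.IsAlt) (hs : s ≠ 0) (h1 : ω u u₁ = s) (h2 : ω u w₀ = 0) (h3 : ω u w₁ = 0)
    (h4 : ω u₁ w₀ = 0) (h5 : ω u₁ w₁ = 0) (h6 : ω w₀ w₁ = 1) (gu : g u = u₁)
    (gu₁ : g u₁ = -u + β • u₁ + (c * s * β₁) • w₀ + (-(c * s * β₀)) • w₁)
    (gw₀ : g w₀ = β₀ • u₁ + c • w₀) (gw₁ : g w₁ = β₁ • u₁ + c • w₁) (hc : c * c = 1) (hβ : β₀ ≠ 0)
    (hd0 : d ≠ 0) (hd1 : 1 + d ≠ 0) (hd2 : 2 + d ≠ 0) : HasFrame ω g := by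
  have n0 : ∀ x, ω x x = 0 := ha
  have n1 : ω u₁ u = -s := by rw [← h1, ha.neg_eq]
  have n2 : ω w₀ u = 0 := by rw [← ha.neg_eq, h2, neg_zero]
  have n3 : ω w₁ u = 0 := by rw [← ha.neg_eq, h3, neg_zero]
  have n4 : ω w₀ u₁ = 0 := by rw [← ha.neg_eq, h4, neg_zero]
  have n5 : ω w₁ u₁ = 0 := by rw [← ha.neg_eq, h5, neg_zero]
  have n6 : ω w₁ w₀ = -1 := by rw [← ha.neg_eq, h6]
  obtain ⟨p, hp⟩ := exists_ne_affine (A := s * (1 - c * (1 + d) * β + (1 + d) * (1 + d)
    + (2 + d) * (β₁ * (c * s * β₀ * (1 + d) / d)))) (B := s * ((2 + d) * β₀))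
    (mul_ne_zero hs (mul_ne_zero hd2 hβ))
  have e1 : ω (u + (d / β₀) • w₀) (g (u + (d / β₀) • w₀)) = s * (1 + d) := by
    simp only [map_add, map_smul, LinearMap.add_apply, LinearMap.smul_apply, smul_eq_mul, gu, gw₀, n0, h1, h2, n4]
    field_simp
    ring
  have e2 : ∀ r : F, ω (u + (-(c * (1 + d))) • u₁ + p • w₀ + r • w₁)
      (g (u + (-(c * (1 + d))) • u₁ + p • w₀ + r • w₁)) =
        s * (1 - c * (1 + d) * β + (1 + d) * (1 + d) + (2 + d) * (β₁ * r)) + s * ((2 + d) * β₀) * p := by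
    intro r
    simp only [map_add, map_smul, map_neg, LinearMap.add_apply, LinearMap.smul_apply,
      smul_eq_mul, gu, gu₁, gw₀, gw₁, n0, h1, h2, h3, h4, h5, h6, n1, n2, n3, n4, n5, n6]
    linear_combination (s * ((1 + d) * (1 + d) + (1 + d) * (p * β₀ + r * β₁))) * hc
  refine ⟨u + (d / β₀) • w₀, u + (-(c * (1 + d))) • u₁ + p • w₀ + (c * s * β₀ * (1 + d) / d) • w₁, ?_, ?_, ?_, ?_⟩
  · simp only [map_add, map_smul, LinearMap.add_apply, LinearMap.smul_apply, smul_eq_mul, n0, h1, h2, h3, n2, n4, h6]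
    field_simp
    ring
  · simp only [map_add, map_smul, LinearMap.add_apply, LinearMap.smul_apply, smul_eq_mul, gu, gw₀, n0, h1, h2, h4, n4,
      n5, n6]
    field_simp
    linear_combination (-(s * β₀ * d * (1 + d))) * hc
  · rw [e1]
    exact mul_ne_zero hs hd1
  · rw [e2]
    exact hp

/-- the case of trivial action on the complement -/
theorem caseA (ha : ω.IsAlt) (hs : s ≠ 0) (h1 : ω u u₁ = s) (h2 : ω u w₀ = 0) (h3 : ω u w₁ = 0)
    (h4 : ω u₁ w₀ = 0) (h5 : ω u₁ w₁ = 0) (h6 : ω w₀ w₁ = 1) (gu : g u = u₁)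
    (gu₁ : g u₁ = -u + β • u₁) (gw₀ : g w₀ = c • w₀) (gw₁ : g w₁ = c • w₁) (hc : c * c = 1)
    (hβ : c * β ≠ 2) : HasFrame ω g := by
  have n0 : ∀ x, ω x x = 0 := ha
  have n1 : ω u₁ u = -s := by rw [← h1, ha.neg_eq]
  have n2 : ω w₀ u = 0 := by rw [← ha.neg_eq, h2, neg_zero]
  have n3 : ω w₁ u = 0 := by rw [← ha.neg_eq, h3, neg_zero]
  have n4 : ω w₀ u₁ = 0 := by rw [← ha.neg_eq, h4, neg_zero]
  have n5 : ω w₁ u₁ = 0 := by rw [← ha.neg_eq, h5, neg_zero]
  have n6 : ω w₁ w₀ = -1 := by rw [← ha.neg_eq, h6]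
  have e1 : ω (u + w₀) (g (u + w₀)) = s := by
    simp only [map_add, map_smul, LinearMap.add_apply, smul_eq_mul, gu, gw₀, n0, h1, h2, n4]
    ring
  have e2 : ω (u₁ + (-c) • u + (-s) • w₁) (g (u₁ + (-c) • u + (-s) • w₁)) = s * (2 - c * β) := by
    simp only [map_add, map_smul, map_neg, LinearMap.add_apply, LinearMap.smul_apply,
      smul_eq_mul, gu, gu₁, gw₁, n0, h1, h3, h5, n1, n3, n5]
    linear_combination s * hc
  refine ⟨u + w₀, u₁ + (-c) • u + (-s) • w₁, ?_, ?_, ?_, ?_⟩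
  · simp only [map_add, map_smul, LinearMap.add_apply, smul_eq_mul, n0, h1, h3, n2, n4, h6]
    ring
  · simp only [map_add, map_smul, LinearMap.add_apply, LinearMap.smul_apply, smul_eq_mul, gu, gw₀, n0, h1, h2, h4, n5,
      n6]
    ring
  · rw [e1]
    exact hs
  · rw [e2]
    exact mul_ne_zero hs (sub_ne_zero.2 (Ne.symm hβ))

end

/-- the frame lemma -/
theorem frame [FiniteDimensional F V] (ω : LinearMap.BilinForm F V) (ha : ω.IsAlt)
    (hn : ∀ x, (∀ y, ω x y = 0) → x = 0) (h4 : finrank F V = 4) (g : V →ₗ[F] V)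
    (hg : ∀ x y, ω (g x) (g y) = ω x y) (hF : ∃ d : F, d ≠ 0 ∧ 1 + d ≠ 0 ∧ 2 + d ≠ 0)
    (hu : ∃ u, ω u (g u) ≠ 0) :
    (∃ (c k : F) (t : V), c * c = 1 ∧ ∀ x, g x = c • (x + (k * ω t x) • t)) ∨ HasFrame ω g := by
  classical
  obtain ⟨d, hd0, hd1, hd2⟩ := hF
  obtain ⟨u, hu⟩ := hu
  obtain ⟨s, hs'⟩ : ∃ s, ω u (g u) = s := ⟨_, rfl⟩
  obtain ⟨u₁, gu⟩ : ∃ u₁, g u = u₁ := ⟨_, rfl⟩
  rw [hs'] at hu
  have h1 : ω u u₁ = s := by rw [← gu, hs']
  have n0 : ∀ x, ω x x = 0 := ha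
  have n1 : ω u₁ u = -s := by rw [← h1, ha.neg_eq]
  -- the complement
  obtain ⟨w₀, hw₀, hw₀0⟩ : ∃ w, w ∈ LinearMap.ker ((ω u).prod (ω u₁)) ∧ w ≠ 0 := by
    have hk : LinearMap.ker ((ω u).prod (ω u₁)) ≠ ⊥ := by
      apply LinearMap.ker_ne_bot_of_finrank_lt
      rw [h4, Module.finrank_prod, Module.finrank_self]
      norm_num
    exact (Submodule.ne_bot_iff _).1 hk
  have hw₀' : ω u w₀ = 0 ∧ ω u₁ w₀ = 0 := by
    have h := LinearMap.mem_ker.1 hw₀
    exact ⟨congrArg Prod.fst h, congrArg Prod.snd h⟩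
  obtain ⟨h2, h4'⟩ := hw₀'
  have n2 : ω w₀ u = 0 := by rw [← ha.neg_eq, h2, neg_zero]
  have n4 : ω w₀ u₁ = 0 := by rw [← ha.neg_eq, h4', neg_zero]
  obtain ⟨w₁, h3, h5, h6⟩ : ∃ w, ω u w = 0 ∧ ω u₁ w = 0 ∧ ω w₀ w = 1 := by
    obtain ⟨v, hv⟩ : ∃ v, ω w₀ v ≠ 0 := by
      by_contra hcon
      push Not at hcon
      exact hw₀0 (hn _ hcon)
    refine ⟨(ω w₀ v)⁻¹ • (v + (-(ω u v / s)) • u₁ + (ω u₁ v / s) • u), ?_, ?_, ?_⟩
    · simp only [map_add, map_smul, smul_eq_mul, n0, h1]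
      field_simp
      ring
    · simp only [map_add, map_smul, smul_eq_mul, n0, n1]
      field_simp
      ring
    · simp only [map_add, map_smul, smul_eq_mul, n2, n4]
      field_simp
      ring
  have n3 : ω w₁ u = 0 := by rw [← ha.neg_eq, h3, neg_zero]
  have n5 : ω w₁ u₁ = 0 := by rw [← ha.neg_eq, h5, neg_zero]
  have n6 : ω w₁ w₀ = -1 := by rw [← ha.neg_eq, h6]
  -- the basis
  have hli : LinearIndependent F ![u, u₁, w₀, w₁] := by
    rw [Fintype.linearIndependent_iff]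
    intro a hsum
    simp only [Fin.sum_univ_four, Matrix.cons_val_zero, Matrix.cons_val_one, Matrix.cons_val] at hsum
    have e1 := congrArg (ω u) hsum
    have e2 := congrArg (ω u₁) hsum
    have e3 := congrArg (ω w₀) hsum
    have e4 := congrArg (ω w₁) hsum
    simp only [map_add, map_smul, smul_eq_mul, map_zero, n0, h1, h2, h3, h4', h5, h6, n1, n2, n3, n4, n5, n6,
      mul_zero, add_zero, zero_add, mul_one, mul_neg, neg_eq_zero, mul_eq_zero, hu, or_false] at e1 e2 e3 e4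
    intro i
    fin_cases i
    · exact e2
    · exact e1
    · exact e4
    · exact e3
  let b : Basis (Fin 4) F V := basisOfLinearIndependentOfCardEqFinrank hli (by rw [h4, Fintype.card_fin])
  have hexp : ∀ x : V, ∃ a0 a1 a2 a3 : F, x = a0 • u + a1 • u₁ + a2 • w₀ + a3 • w₁ := by
    intro x
    refine ⟨b.repr x 0, b.repr x 1, b.repr x 2, b.repr x 3, ?_⟩
    conv_lhs => rw [← b.sum_repr x]
    rw [Fin.sum_univ_four]
    simp only [b, coe_basisOfLinearIndependentOfCardEqFinrank, Matrix.cons_val_zero, Matrix.cons_val_one,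
      Matrix.cons_val]
  by_cases hno : ∃ v, ω u v = 0 ∧ ω v (g u) = 0 ∧ ω v (g v) ≠ 0
  · obtain ⟨v, hv1, hv2, hv3⟩ := hno
    exact Or.inr ⟨u, v, hv1, hv2, by rw [hs']; exact hu, hv3⟩
  push Not at hno
  obtain ⟨α₀, β₀, γ₀, δ₀, gw₀⟩ := hexp (g w₀)
  obtain ⟨α₁, β₁, γ₁, δ₁, gw₁⟩ := hexp (g w₁)
  obtain ⟨α, β, γ, δ, gu₁⟩ := hexp (g u₁)
  have E1 : α₀ = 0 := by
    have := hg w₀ u
    rw [gw₀, gu] at this
    simp only [map_add, map_smul, LinearMap.add_apply, LinearMap.smul_apply, smul_eq_mul, n0, h1, n2, n4, n5,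
      mul_zero, add_zero, mul_eq_zero, hu, or_false] at this
    exact this
  have E2 : α₁ = 0 := by
    have := hg w₁ u
    rw [gw₁, gu] at this
    simp only [map_add, map_smul, LinearMap.add_apply, LinearMap.smul_apply, smul_eq_mul, n0, h1, n3, n4, n5,
      mul_zero, add_zero, mul_eq_zero, hu, or_false] at this
    exact this
  subst E1 E2
  have E3 : δ₀ = 0 := by
    have := hno w₀ h2 (by rw [gu]; exact n4)
    rw [gw₀] at this
    simp only [map_add, map_smul, smul_eq_mul, n0, n4, n2, h6, mul_zero, add_zero, zero_add, mul_one] at this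
    exact this
  have E4 : γ₁ = 0 := by
    have := hno w₁ h3 (by rw [gu]; exact n5)
    rw [gw₁] at this
    simp only [map_add, map_smul, smul_eq_mul, n0, n5, n3, n6, mul_zero, add_zero, zero_add, mul_neg, mul_one,
      neg_eq_zero] at this
    exact this
  subst E3 E4
  have E5 : δ₁ = γ₀ := by
    have := hno (w₀ + w₁) (by rw [map_add, h2, h3, add_zero]) (by
      rw [gu, LinearMap.map_add₂, n4, n5, add_zero])
    rw [g.map_add, gw₀, gw₁] at this
    simp only [map_add, map_smul, LinearMap.add_apply, smul_eq_mul, n0, n2, n3, n4, n5, n6, h6] at this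
    linear_combination this
  subst E5
  have hc : δ₁ * δ₁ = 1 := by
    have := hg w₀ w₁
    rw [gw₀, gw₁, h6] at this
    simp only [map_add, map_smul, LinearMap.add_apply, LinearMap.smul_apply, smul_eq_mul, n0, n1, n2, n3, n4, n5, n6,
      h1, h2, h3, h4', h5, h6] at this
    linear_combination this
  have E6 : α = -1 := by
    have := hg u₁ u
    rw [gu₁, gu, n1] at this
    simp only [map_add, map_smul, LinearMap.add_apply, LinearMap.smul_apply, smul_eq_mul, n0, n4, n5, h1] at this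
    apply mul_right_cancel₀ hu
    linear_combination this
  subst E6
  have hγ : γ = δ₁ * s * β₁ := by
    have := hg u₁ w₁
    rw [gu₁, gw₁, h5] at this
    simp only [map_add, map_smul, LinearMap.add_apply, LinearMap.smul_apply, smul_eq_mul, n0, n4, n5, h1, h2, h3, h4',
      h5, h6] at this
    linear_combination δ₁ * this - γ * hc
  have hδ : δ = -(δ₁ * s * β₀) := by
    have := hg u₁ w₀
    rw [gu₁, gw₀, h4'] at this
    simp only [map_add, map_smul, LinearMap.add_apply, LinearMap.smul_apply, smul_eq_mul, n0, n4, n5, n6, h1, h2, h3,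
      h4', h5] at this
    linear_combination -δ₁ * this - δ * hc
  subst hγ hδ
  rw [zero_smul, zero_add, zero_smul, add_zero] at gw₀
  rw [zero_smul, zero_add, zero_smul, add_zero] at gw₁
  rw [neg_smul, one_smul] at gu₁
  by_cases hb0 : β₀ = 0
  · by_cases hb1 : β₁ = 0
    · subst hb0 hb1
      rw [zero_smul, zero_add] at gw₀ gw₁
      rw [mul_zero, neg_zero, zero_smul, add_zero, zero_smul, add_zero] at gu₁
      by_cases hcb : δ₁ * β = 2
      · left
        refine ⟨δ₁, -(δ₁ / s), δ₁ • u₁ - u, hc, fun x => ?_⟩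
        obtain ⟨a0, a1, a2, a3, rfl⟩ := hexp x
        have hb : β = 2 * δ₁ := by linear_combination δ₁ * hcb - β * hc
        have ht : ω (δ₁ • u₁ - u) (a0 • u + a1 • u₁ + a2 • w₀ + a3 • w₁) = -(s * (δ₁ * a0 + a1)) := by
          simp only [map_add, map_smul, map_sub, LinearMap.sub_apply, LinearMap.smul_apply, smul_eq_mul, n0, n1, h1,
            h2, h3, h4', h5]
          ring
        rw [ht]
        have hk : -(δ₁ / s) * -(s * (δ₁ * a0 + a1)) = a0 + δ₁ * a1 := by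
          field_simp
          linear_combination a0 * hc
        rw [hk, map_add, map_add, map_add, map_smul, map_smul, map_smul, map_smul, gu, gu₁, gw₀, gw₁, hb]
        match_scalars
        · linear_combination (-(a0 + δ₁ * a1)) * hc
        · linear_combination a1 * hc
        · ring
        · ring
      · exact Or.inr (caseA ha hu h1 h2 h3 h4' h5 h6 gu gu₁ gw₀ gw₁ hc hcb)
    · subst hb0
      have h7 : ω w₁ (-w₀) = 1 := by rw [map_neg, n6, neg_neg]
      have h8 : ω u (-w₀) = 0 := by rw [map_neg, h2, neg_zero]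
      have h9 : ω u₁ (-w₀) = 0 := by rw [map_neg, h4', neg_zero]
      refine Or.inr (caseB (β₀ := β₁) (β₁ := 0) (β := β) (c := δ₁) ha hu h1 h3 h8 h5 h9 h7 gu ?_ gw₁ ?_ hc hb1 hd0
        hd1 hd2)
      · rw [gu₁]
        simp only [mul_zero, neg_zero, zero_smul, add_zero, smul_neg, neg_smul, neg_neg]
      · rw [map_neg, gw₀]
        simp only [zero_smul, zero_add, smul_neg]
  · exact Or.inr (caseB ha hu h1 h2 h3 h4' h5 h6 gu gu₁ gw₀ gw₁ hc hb0 hd0 hd1 hd2)

theorem exists_d [Fintype F] (hF : 4 ≤ Fintype.card F) : ∃ d : F, d ≠ 0 ∧ 1 + d ≠ 0 ∧ 2 + d ≠ 0 := by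
  classical
  obtain ⟨d, -, hd⟩ := Finset.exists_mem_notMem_of_card_lt_card (s := ({0, -1, -2} : Finset F))
    (t := Finset.univ) (lt_of_le_of_lt Finset.card_le_three (by rw [Finset.card_univ]; omega))
  simp only [Finset.mem_insert, Finset.mem_singleton, not_or] at hd
  refine ⟨d, hd.1, fun h => hd.2.1 ?_, fun h => hd.2.2 ?_⟩
  · linear_combination h
  · linear_combination h

/-- if `ω(u, g u) = 0` for all `u` then `g² = 1` -/
theorem exists_ne_of_sq [FiniteDimensional F V] (ω : LinearMap.BilinForm F V) (ha : ω.IsAlt)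
    (hn : ∀ x, (∀ y, ω x y = 0) → x = 0) (g : V →ₗ[F] V)
    (hg : ∀ x y, ω (g x) (g y) = ω x y) (h2 : ∃ x, g (g x) ≠ x) : ∃ u, ω u (g u) ≠ 0 := by
  by_contra hcon
  push Not at hcon
  obtain ⟨x, hx⟩ := h2
  have hinj : Function.Injective g := by
    rw [← LinearMap.ker_eq_bot, LinearMap.ker_eq_bot']
    intro z hz
    refine hn z fun y => ?_
    rw [← hg, hz, map_zero, LinearMap.zero_apply]
  have hsurj : Function.Surjective g := (LinearMap.injective_iff_surjective).1 hinj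
  apply hx
  rw [← sub_eq_zero]
  refine hn _ fun y => ?_
  obtain ⟨z, rfl⟩ := hsurj y
  have h1 := hcon (x + z)
  rw [g.map_add, map_add, LinearMap.map_add₂, LinearMap.map_add₂, hcon x, hcon z] at h1
  have h3 : ω (g x) z = -ω z (g x) := by rw [← ha.neg_eq]
  rw [LinearMap.map_sub₂, hg (g x) z, h3]
  linear_combination -h1

open Matrix in
/-- the symplectic form on `F⁴`, index order `e₁, e₂, f₁, f₂` -/
def w4 (u v : Fin 4 → F) : F := u 0 * v 2 + u 1 * v 3 - u 2 * v 0 - u 3 * v 1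

/-- as a bilinear form -/
def B4 : LinearMap.BilinForm F (Fin 4 → F) :=
  LinearMap.mk₂ F w4 (fun a b c => by simp only [w4, Pi.add_apply]; ring)
    (fun k a b => by simp only [w4, Pi.smul_apply, smul_eq_mul]; ring)
    (fun a b c => by simp only [w4, Pi.add_apply]; ring)
    (fun k a b => by simp only [w4, Pi.smul_apply, smul_eq_mul]; ring)

theorem B4_apply (u v : Fin 4 → F) : B4 u v = w4 u v := rfl

theorem B4_alt : (B4 : LinearMap.BilinForm F (Fin 4 → F)).IsAlt := fun u => by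
  rw [B4_apply, w4]
  ring

theorem B4_nondeg (x : Fin 4 → F) (h : ∀ y, B4 x y = 0) : x = 0 := by
  funext i
  fin_cases i
  · simpa [B4_apply, w4] using h (Pi.single 2 1)
  · simpa [B4_apply, w4] using h (Pi.single 3 1)
  · simpa [B4_apply, w4] using h (Pi.single 0 1)
  · simpa [B4_apply, w4] using h (Pi.single 1 1)

/-- the frame lemma for matrices, index `Fin 4` -/
theorem frame4 [Fintype F] (hF : 4 ≤ Fintype.card F) (G : Matrix (Fin 4) (Fin 4) F)
    (hG : ∀ x y, w4 (G.mulVec x) (G.mulVec y) = w4 x y) (h2 : G * G ≠ 1) :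
    (∃ (c k : F) (t : Fin 4 → F), c * c = 1 ∧ ∀ x, G.mulVec x = c • (x + (k * w4 t x) • t)) ∨
      ∃ x y : Fin 4 → F, w4 x y = 0 ∧ w4 y (G.mulVec x) = 0 ∧ w4 x (G.mulVec x) ≠ 0 ∧ w4 y (G.mulVec y) ≠ 0 := by
  have h3 : ∃ x, G.mulVecLin (G.mulVecLin x) ≠ x := by
    by_contra hcon
    push Not at hcon
    apply h2
    apply Matrix.mulVec_injective
    funext x
    rw [Matrix.one_mulVec, ← Matrix.mulVec_mulVec]
    exact hcon x
  have h4 := exists_ne_of_sq B4 B4_alt B4_nondeg G.mulVecLin (fun x y => hG x y) h3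
  rcases frame B4 B4_alt B4_nondeg (by rw [Module.finrank_fintype_fun_eq_card, Fintype.card_fin]) G.mulVecLin
    (fun x y => hG x y) (exists_d hF) h4 with h | h
  · exact Or.inl h
  · exact Or.inr h

end Cfsg.Agent.H7.TC
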